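import Groth.Agent.Lib.QuadGrp99.SO.Tangent
import Groth.Agent.Lib.QuadGrp99.Cliff.Group.Smooth
import Mathlib.LinearAlgebra.TensorAlgebra.Basic

/-!
# Equations of the special orthogonal group in even rank
-/

noncomputable section

open CliffordAlgebra TensorProduct
open scoped Matrix

universe u v

namespace Groth.Agent.Lib.QuadGrp99.SO

open Groth.Agent.Lib.QuadGrp99 Groth.Agent.Lib.QuadGrp99.Cliff Groth.Agent.Lib.QuadGrp99.Cliff.Group

section Generic

variable {R : Type u} [CommRing R] {M : Type v} [AddCommGroup M] [Module R M] [Module.Free R M] [Module.Finite R M]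
  {Q : QuadraticForm R M}

theorem isSplit_of_rel (y : CliffordAlgebra Q) (s d : R) (hy : y ∈ evenOdd Q 0)
    (hrel : ∀ v, y * ι Q v + ι Q v * y = s • ι Q v) (hs : IsUnit s) (hd : IsUnit d)
    (hw : (algebraMap R (CliffordAlgebra Q) s - 2 * y) * (algebraMap R (CliffordAlgebra Q) s - 2 * y) =
      algebraMap R (CliffordAlgebra Q) d) :
    IsSplit Q ((↑hs.unit⁻¹ : R) • y) where
  even := Submodule.smul_mem _ _ hy
  swap v := by
    rw [mul_sub, mul_one, mul_smul_comm, smul_mul_assoc, eq_sub_iff_add_eq, ← smul_add, hrel, smul_smul,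
      hs.val_inv_mul, one_smul]
  unit := by
    have e : (1 - 2 * ((↑hs.unit⁻¹ : R) • y) : CliffordAlgebra Q) =
        (↑hs.unit⁻¹ : R) • (algebraMap R (CliffordAlgebra Q) s - 2 * y) := by
      rw [smul_sub, mul_smul_comm, Algebra.smul_def (↑hs.unit⁻¹ : R) (algebraMap R (CliffordAlgebra Q) s), ← map_mul,
        hs.val_inv_mul, map_one]
    rw [e, Algebra.smul_def]
    exact ((hs.unit⁻¹).isUnit.map _).mul (isUnit_of_sq_scalar _ _ hd hw)

variable (A : Type u) [CommRing A] [Algebra R A]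

theorem rel_toBC (y : CliffordAlgebra Q) (s : R) (hrel : ∀ v, y * ι Q v + ι Q v * y = s • ι Q v)
    (w : A ⊗[R] M) :
    toBC A Q y * ι (QA A Q) w + ι (QA A Q) w * toBC A Q y = algebraMap R A s • ι (QA A Q) w := by
  induction w using TensorProduct.induction_on with
  | zero => simp
  | add p r hp hr => rw [map_add, mul_add, add_mul, smul_add, ← hp, ← hr]; abel
  | tmul c v =>
    rw [ι_tmul, mul_smul_comm, smul_mul_assoc, ← smul_add, ← map_mul, ← map_mul, ← map_add, hrel, map_smul,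
      smul_comm, algebraMap_smul]

omit [Module.Finite R M] in
theorem sq_toBC (y : CliffordAlgebra Q) (s d : R)
    (hw : (algebraMap R (CliffordAlgebra Q) s - 2 * y) * (algebraMap R (CliffordAlgebra Q) s - 2 * y) =
      algebraMap R (CliffordAlgebra Q) d) :
    (algebraMap A (CliffordAlgebra (QA A Q)) (algebraMap R A s) - 2 * toBC A Q y) *
      (algebraMap A (CliffordAlgebra (QA A Q)) (algebraMap R A s) - 2 * toBC A Q y) =
      algebraMap A (CliffordAlgebra (QA A Q)) (algebraMap R A d) := by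
  have := congrArg (toBC A Q) hw
  rwa [map_mul, map_sub, map_mul (toBC A Q) 2 y, map_ofNat, AlgHom.commutes, AlgHom.commutes,
    IsScalarTower.algebraMap_apply R A (CliffordAlgebra (QA A Q)),
    IsScalarTower.algebraMap_apply R A (CliffordAlgebra (QA A Q))] at this

/-- Local splitting data. -/
structure Good (Q : QuadraticForm R M) (y : CliffordAlgebra Q) (s d : R) : Prop where
  even : y ∈ evenOdd Q 0
  rel : ∀ v, y * ι Q v + ι Q v * y = s • ι Q v
  sq : (algebraMap R (CliffordAlgebra Q) s - 2 * y) * (algebraMap R (CliffordAlgebra Q) s - 2 * y) =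
    algebraMap R (CliffordAlgebra Q) d

theorem exists_good (hQ : QuadGrp.IsRegular Q) (m : ℕ) (hM : Module.finrank R M = 2 * m) (P : Ideal R) [P.IsPrime] :
    ∃ y s d, Good Q y s d ∧ s * d ∉ P := by
  obtain ⟨y, s, h, hhP, hye, hrel, hsp⟩ := spread P hQ m hM
  obtain ⟨z, hz, a, ha, rfl⟩ := hsp P hhP
  set w := algebraMap R (CliffordAlgebra Q) s - 2 * y with hw
  have hanti : ∀ v, ι Q v * w = -(w * ι Q v) := fun v => by
    rw [hw, eq_neg_iff_add_eq_zero, mul_sub, sub_mul, ← Algebra.commutes s]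
    calc algebraMap R _ s * ι Q v - ι Q v * (2 * y) + (algebraMap R _ s * ι Q v - 2 * y * ι Q v)
        = 2 * (algebraMap R _ s * ι Q v) - 2 * (y * ι Q v + ι Q v * y) := by noncomm_ring
      _ = 0 := by rw [hrel, Algebra.smul_def, sub_self]
  have hwe : w ∈ evenOdd Q 0 := by
    rw [hw, two_mul]; exact sub_mem (SetLike.algebraMap_mem_graded _ _) (add_mem hye hye)
  obtain ⟨d, hd⟩ := even_central hQ (w * w) (mul_mem_even_odd Q (by decide) hwe hwe) fun v => by
    rw [← mul_assoc, hanti, neg_mul, mul_assoc, hanti, mul_neg, neg_neg, mul_assoc]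
  refine ⟨y, s, d, ⟨hye, hrel, hd.symm⟩, fun hsd => ?_⟩
  have hs : IsUnit (algebraMap R (Localization.AtPrime P) s) := ⟨a, ha⟩
  have hu : IsUnit (toBC (Localization.AtPrime P) Q w) := by
    have : toBC (Localization.AtPrime P) Q w =
        (a : Localization.AtPrime P) • (1 - 2 * ((↑a⁻¹ : Localization.AtPrime P) • toBC (Localization.AtPrime P) Q y)) := by
      rw [hw, map_sub, map_mul (toBC _ Q) 2 y, map_ofNat, AlgHom.commutes, smul_sub, mul_smul_comm, smul_smul,
        a.mul_inv, one_smul, ← Algebra.algebraMap_eq_smul_one, ha,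
        IsScalarTower.algebraMap_apply R (Localization.AtPrime P) (CliffordAlgebra (QA (Localization.AtPrime P) Q))]
    rw [this, Algebra.smul_def]
    exact (a.isUnit.map _).mul hz.unit
  have hu2 := hu.mul hu
  rw [← map_mul, ← hd, AlgHom.commutes, IsScalarTower.algebraMap_apply R (Localization.AtPrime P),
    Algebra.algebraMap_eq_smul_one] at hu2
  have hd' := (IsLocalization.AtPrime.isUnit_to_map_iff _ P d).mp (isUnit_of_smul_isUnit _ _ _ hu2)
  have hs' := (IsLocalization.AtPrime.isUnit_to_map_iff _ P s).mp hs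
  exact (Ideal.IsPrime.mem_or_mem ‹P.IsPrime› hsd).elim hs' hd'

/-- Finitely many local splitting data covering the base. -/
structure Cover (Q : QuadraticForm R M) where
  T : Finset R
  top : Ideal.span (T : Set R) = ⊤
  y : R → CliffordAlgebra Q
  s : R → R
  d : R → R
  good : ∀ h ∈ T, Good Q (y h) (s h) (d h)
  eq : ∀ h ∈ T, h = s h * d h

theorem nonempty_cover (hQ : QuadGrp.IsRegular Q) (m : ℕ) (hM : Module.finrank R M = 2 * m) :
    Nonempty (Cover Q) := by
  classical
  let S : Set R := {h | ∃ y s d, Good Q y s d ∧ h = s * d}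
  have htop : Ideal.span S = ⊤ := by
    by_contra hne
    obtain ⟨P, hP, hle⟩ := Ideal.exists_le_maximal _ hne
    obtain ⟨y, s, d, hg, hsd⟩ := exists_good hQ m hM P
    exact hsd (hle (Ideal.subset_span ⟨y, s, d, hg, rfl⟩))
  obtain ⟨T, hT, hTtop⟩ := (Ideal.span_eq_top_iff_finite S).1 htop
  choose! y s d hg he using fun h (hh : h ∈ T) => hT hh
  exact ⟨⟨T, hTtop, y, s, d, hg, he⟩⟩

end Generic

variable {R : Type u} [CommRing R] (m : ℕ) {Q : QuadraticForm R (Fin (2 * m) → R)}
  (hQ : QuadGrp.IsRegular Q) (C : Cover Q) {A : Type u} [CommRing A] [Algebra R A]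

theorem lift_ι_surjective (x : CliffordAlgebra Q) : ∃ t, TensorAlgebra.lift R (ι Q) t = x := by
  induction x using CliffordAlgebra.induction with
  | algebraMap r => exact ⟨algebraMap R _ r, AlgHom.commutes _ r⟩
  | ι v => exact ⟨TensorAlgebra.ι R v, TensorAlgebra.lift_ι_apply _ _⟩
  | mul a b ha hb => obtain ⟨a, rfl⟩ := ha; obtain ⟨b, rfl⟩ := hb; exact ⟨a * b, map_mul _ _ _⟩
  | add a b ha hb => obtain ⟨a, rfl⟩ := ha; obtain ⟨b, rfl⟩ := hb; exact ⟨a + b, map_add _ _ _⟩

variable (Q) in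
/-- The multiplicative extension of a matrix to the tensor algebra. -/
def Psi (H : Matrix (Fin (2 * m)) (Fin (2 * m)) A) : TensorAlgebra R (Fin (2 * m) → R) →ₐ[R] CC Q A :=
  TensorAlgebra.lift R ((Pi.basisFun R (Fin (2 * m))).constr R (Gv Q H))

theorem F_Psi {B : Type u} [CommRing B] [Algebra R B] (φ : A →ₐ[R] B) (H : Matrix (Fin (2 * m)) (Fin (2 * m)) A)
    (t : TensorAlgebra R (Fin (2 * m) → R)) : F Q φ (Psi m Q H t) = Psi m Q (H.map φ) t := by
  induction t using TensorAlgebra.induction with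
  | algebraMap r =>
    rw [AlgHom.commutes, AlgHom.commutes, IsScalarTower.algebraMap_apply R A (CC Q A), F_algebraMap,
      AlgHom.commutes φ, ← IsScalarTower.algebraMap_apply]
  | ι v =>
    rw [Psi, Psi, TensorAlgebra.lift_ι_apply, TensorAlgebra.lift_ι_apply, Module.Basis.constr_apply_fintype,
      Module.Basis.constr_apply_fintype, map_sum]
    refine Finset.sum_congr rfl fun j _ => ?_
    rw [← algebraMap_smul A _ (Gv Q H j), F_smul, AlgHom.commutes, algebraMap_smul, F_Gv]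
  | mul a b ha hb => simp only [map_mul, ha, hb]
  | add a b ha hb => simp only [map_add, ha, hb]

theorem Psi_mat (g : (A ⊗[R] (Fin (2 * m) → R)) ≃ₗ[A] (A ⊗[R] (Fin (2 * m) → R)))
    (hg : g ∈ QuadGrp.O (QA A Q)) (t : TensorAlgebra R (Fin (2 * m) → R)) :
    Psi m Q (Rep.mat g) t =
      CliffordAlgebra.map (QuadGrp.isometryOfMem (QA A Q) g hg) (toBC A Q (TensorAlgebra.lift R (ι Q) t)) := by
  have key : Psi m Q (Rep.mat g) = ((CliffordAlgebra.map (QuadGrp.isometryOfMem (QA A Q) g hg)).restrictScalars R).comp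
      ((toBC A Q).comp (TensorAlgebra.lift R (ι Q))) := by
    refine TensorAlgebra.hom_ext ((Pi.basisFun R (Fin (2 * m))).ext fun j => ?_)
    simp only [LinearMap.comp_apply, AlgHom.toLinearMap_apply, AlgHom.comp_apply, AlgHom.restrictScalars_apply,
      Psi, TensorAlgebra.lift_ι_apply, Module.Basis.constr_basis]
    rw [toBC_ι, map_apply_ι, QuadGrp.isometryOfMem_apply, Gv_mat, Module.Basis.baseChange_apply]
  exact AlgHom.congr_fun key t

/-- A chosen word for each splitting datum. -/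
def word (h : R) : TensorAlgebra R (Fin (2 * m) → R) := (lift_ι_surjective m (C.y h)).choose

/-- The defect of the Dickson condition. -/
def defect (g : (A ⊗[R] (Fin (2 * m) → R)) ≃ₗ[A] (A ⊗[R] (Fin (2 * m) → R)))
    (hg : g ∈ QuadGrp.O (QA A Q)) (h : R) : CC Q A :=
  CliffordAlgebra.map (QuadGrp.isometryOfMem (QA A Q) g hg) (toBC A Q (C.y h)) - toBC A Q (C.y h)

/-- The equations of `SO(q)`. -/
def eqSOE : Sym2 (Fin (2 * m)) ⊕ (↥C.T × Idx Q) → MvPolynomial (Fin (2 * m) × Fin (2 * m)) R :=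
  Sum.elim (OrthSmooth.eqO Q) fun p =>
    (bC Q (MvPolynomial (Fin (2 * m) × Fin (2 * m)) R)).repr
      (Psi m Q (OrthSmooth.gen R (2 * m)) (word m C p.1) - toBC _ Q (C.y p.1)) p.2

theorem isSol_eqSOE (H : Matrix (Fin (2 * m)) (Fin (2 * m)) A) :
    Rep.IsSol (eqSOE m C) H ↔
      Rep.IsSol (OrthSmooth.eqO Q) H ∧ ∀ h ∈ C.T, Psi m Q H (word m C h) = toBC A Q (C.y h) := by
  have hev : ∀ (h : ↥C.T) i, Rep.evM H (eqSOE m C (Sum.inr (h, i))) =
      (bC Q A).repr (Psi m Q H (word m C h) - toBC A Q (C.y h)) i := fun h i => by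
    have e1 : (OrthSmooth.gen R (2 * m)).map (Rep.evM H) = H := by ext a b; simp [OrthSmooth.gen, Rep.evM]
    rw [eqSOE, Sum.elim_inr, ← repr_F, map_sub, F_Psi, F_toBC, e1]
  refine ⟨fun hH => ⟨fun s => hH (Sum.inl s), fun h hh => ?_⟩, fun hH k => ?_⟩
  · rw [← sub_eq_zero]
    exact (bC Q A).forall_coord_eq_zero_iff.1 fun i => (hev ⟨h, hh⟩ i).symm.trans (hH (Sum.inr (⟨h, hh⟩, i)))
  · cases k with
    | inl s => exact hH.1 s
    | inr p => rw [hev, sub_eq_zero.2 (hH.2 p.1 p.1.2), map_zero]; rfl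

variable (g : (A ⊗[R] (Fin (2 * m) → R)) ≃ₗ[A] (A ⊗[R] (Fin (2 * m) → R))) (hg : g ∈ QuadGrp.O (QA A Q))

theorem isSol_mat_iff : Rep.IsSol (eqSOE m C) (Rep.mat g) ↔ ∀ h ∈ C.T, defect m C g hg h = 0 := by
  rw [isSol_eqSOE, and_iff_right ((OrthSmooth.mem_orth_iff Q A g).1 ((mem_O_QA_iff Q g).1 hg))]
  refine forall₂_congr fun h _ => ?_
  rw [Psi_mat m g hg, word, (lift_ι_surjective m (C.y h)).choose_spec, defect, sub_eq_zero]

theorem fixed_of_trivial (ht : QuadGrp.IsDicksonTrivial (QA A Q) g hg) : ∀ h ∈ C.T, defect m C g hg h = 0 := by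
  intro h hh
  rw [defect, sub_eq_zero]
  exact ht ⟨_, toBC_mem_evenOdd A Q 0 _ (C.good h hh).even⟩ (Subalgebra.mem_center_iff.mpr fun x =>
    Subtype.ext (toBC_commute_even A Q _ (spread_central (C.good h hh).rel) _ x.2).symm)

include hQ in
theorem trivial_of_sq [Nontrivial A] (h0 : ∀ h ∈ C.T, defect m C g hg h * defect m C g hg h = 0) :
    QuadGrp.IsDicksonTrivial (QA A Q) g hg := by
  refine trivial_of_local (R := A) (M := A ⊗[R] (Fin (2 * m) → R)) g hg fun J hJ => ?_
  have hR := regular_QA A Q hQ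
  obtain ⟨h, hh, hhJ⟩ : ∃ h ∈ C.T, algebraMap R A h ∉ J := by
    by_contra hcon
    push Not at hcon
    exact (Ideal.comap_ne_top (algebraMap R A) hJ.ne_top) (eq_top_iff.2 (C.top.ge.trans (Ideal.span_le.2 hcon)))
  rw [C.eq h hh, map_mul] at hhJ
  have hs : IsUnit (algebraMap A (Localization.AtPrime J) (algebraMap R A (C.s h))) :=
    (IsLocalization.AtPrime.isUnit_to_map_iff _ J _).mpr fun h' => hhJ (J.mul_mem_right _ h')
  have hd : IsUnit (algebraMap A (Localization.AtPrime J) (algebraMap R A (C.d h))) :=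
    (IsLocalization.AtPrime.isUnit_to_map_iff _ J _).mpr fun h' => hhJ (J.mul_mem_left _ h')
  have hw := sq_toBC (R := A) (M := A ⊗[R] (Fin (2 * m) → R)) (Localization.AtPrime J) _ _ _
    (sq_toBC A (C.y h) _ _ (C.good h hh).sq)
  have hz := isSplit_of_rel (R := Localization.AtPrime J) _ _ _
    (toBC_mem_evenOdd (Localization.AtPrime J) (QA A Q) 0 _ (toBC_mem_evenOdd A Q 0 _ (C.good h hh).even))
    (rel_toBC (R := A) (M := A ⊗[R] (Fin (2 * m) → R)) (Localization.AtPrime J) _ _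
      (rel_toBC A (C.y h) _ (C.good h hh).rel)) hs hd hw
  rcases dichotomy (regular_QA (Localization.AtPrime J) (QA A Q) hR) m
      (finrank_loc (R := A) (M := A ⊗[R] (Fin (2 * m) → R)) J m (finrank_bA A)) _
      (baseChange_mem_O (Localization.AtPrime J) (QA A Q) g hg) with ⟨-, h2⟩ | ⟨-, -, h3⟩
  · exact h2
  exfalso
  have e := congrArg (fun t => algebraMap A (Localization.AtPrime J) (algebraMap R A (C.s h)) • t) (h3 _ hz)
  simp only [map_smul, smul_sub, smul_smul, hs.mul_val_inv, one_smul, ← Algebra.algebraMap_eq_smul_one] at e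
  have hδ : toBC (Localization.AtPrime J) (QA A Q) (defect m C g hg h) =
      algebraMap _ _ (algebraMap A (Localization.AtPrime J) (algebraMap R A (C.s h))) -
        2 * toBC (Localization.AtPrime J) (QA A Q) (toBC A Q (C.y h)) := by
    rw [defect, map_sub, toBC_map (Localization.AtPrime J) (QA A Q) g hg, e]
    noncomm_ring
  have hu := isUnit_of_sq_scalar _ _ hd hw
  rw [← hδ] at hu
  haveI : Nontrivial (CliffordAlgebra (QA (Localization.AtPrime J) (QA A Q))) :=
    Cliff.algebraMap_injective.nontrivial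
  have := hu.mul hu
  rw [← map_mul, h0 h hh, map_zero] at this
  exact not_isUnit_zero this

include hQ in
theorem mem_sorth_iff (g : (A ⊗[R] (Fin (2 * m) → R)) ≃ₗ[A] (A ⊗[R] (Fin (2 * m) → R))) :
    g ∈ QuadGrp.sorth Q A ↔ Rep.IsSol (eqSOE m C) (Rep.mat g) := by
  rcases subsingleton_or_nontrivial A with hA | hA
  · haveI := Module.subsingleton A (A ⊗[R] (Fin (2 * m) → R))
    refine iff_of_true ?_ fun k => Subsingleton.elim _ _
    rw [show g = 1 from LinearEquiv.ext fun v => Subsingleton.elim _ _]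
    exact one_mem _
  have e : QuadGrp.sorth Q A = QuadGrp.SOeven (QA A Q) := by
    rw [QuadGrp.sorth, QuadGrp.SO, finrank_bA A, if_pos (even_two_mul m)]
  rw [e]
  refine ⟨fun ⟨hg, ht⟩ => (isSol_mat_iff m C g hg).2 (fixed_of_trivial m C g hg ht), fun hs => ?_⟩
  have hg : g ∈ QuadGrp.O (QA A Q) :=
    (mem_O_QA_iff Q g).2 ((OrthSmooth.mem_orth_iff Q A g).2 ((isSol_eqSOE m C _).1 hs).1)
  exact ⟨hg, trivial_of_sq m hQ C g hg fun h hh => by rw [(isSol_mat_iff m C g hg).1 hs h hh, zero_mul]⟩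

include hQ in
/-- A lift of a solution along a square zero kernel is a solution. -/
theorem sol_of_lift {B B' : Type u} [CommRing B] [Algebra R B] [CommRing B'] [Algebra R B'] (p : B →ₐ[R] B')
    (hker : ∀ a b, p a = 0 → p b = 0 → a * b = 0) (H : Matrix (Fin (2 * m)) (Fin (2 * m)) B)
    (hH : Rep.IsSol (OrthSmooth.eqO Q) H) (hp : Rep.IsSol (eqSOE m C) (H.map p)) :
    Rep.IsSol (eqSOE m C) H := by
  rcases subsingleton_or_nontrivial B with hB | hB
  · exact fun k => Subsingleton.elim _ _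
  obtain ⟨g, hg, rfl⟩ := exists_g (nondeg_even m hQ) B H hH
  refine (isSol_mat_iff m C g hg).2 (fixed_of_trivial m C g hg (trivial_of_sq m hQ C g hg fun h hh => ?_))
  have h0 : F Q p (defect m C g hg h) = 0 := by
    have e : defect m C g hg h = Psi m Q (Rep.mat g) (word m C h) - toBC B Q (C.y h) := by
      rw [Psi_mat m g hg, word, (lift_ι_surjective m (C.y h)).choose_spec, defect]
    rw [e, map_sub, F_Psi, F_toBC, ((isSol_eqSOE m C _).1 hp).2 h hh, sub_self]
  exact kernel_mul p hker _ _ h0 h0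

include hQ in
theorem formallySmooth : Algebra.FormallySmooth R (Rep.coordRing (eqSOE m C)) := by
  haveI := OrthSmooth.formallySmooth_O Q (nondeg_even m hQ) (Or.inl (even_two_mul m))
  refine Rep.formallySmooth_of_lift _ fun B _ _ I hI H hH => ?_
  have hker : ∀ a b, Ideal.Quotient.mkₐ R I a = 0 → Ideal.Quotient.mkₐ R I b = 0 → a * b = 0 := fun a b ha hb => by
    have := Ideal.mul_mem_mul (Ideal.Quotient.eq_zero_iff_mem.1 ha) (Ideal.Quotient.eq_zero_iff_mem.1 hb)
    rwa [← pow_two, hI, Ideal.mem_bot] at this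
  obtain ⟨H', hH', hmap⟩ := Rep.exists_lift (OrthSmooth.eqO Q) (Ideal.Quotient.mkₐ R I)
    (Ideal.Quotient.mkₐ_surjective R I)
    ⟨2, by rw [Submodule.zero_eq_bot, show RingHom.ker (Ideal.Quotient.mkₐ R I) = I from Ideal.mk_ker, hI]⟩
    H ((isSol_eqSOE m C H).1 hH).1
  exact ⟨H', sol_of_lift m hQ C _ hker H' hH' (by rw [hmap]; exact hH), hmap⟩

include hQ in
theorem finrank_derivation_even (K : Type u) [Field K] [Algebra R K] [Algebra (Rep.coordRing (eqSOE m C)) K]
    [IsScalarTower R (Rep.coordRing (eqSOE m C)) K] :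
    Module.finrank K (Derivation R (Rep.coordRing (eqSOE m C)) K) = m * (2 * m - 1) := by
  set H := ptMat (eqSOE m C) (K := K)
  have hs : Rep.IsSol (eqSOE m C) H := (Rep.solEquiv _ K _).2
  have hO := ((isSol_eqSOE m C H).1 hs).1
  have hn := nondeg_even m hQ
  set U := (OrthSmooth.matU Q).map (algebraMap R K)
  rw [finrank_derivation (eqSOE m C) (LinearMap.fst K _ K ∘ₗ OrthSmooth.tang U 0 ∘ₗ LinearMap.inl K _ K)
    (OrthSmooth.isUnit_det_sol Q hn K H hO) fun X => ?_,
    finrank_tang_even m U (OrthSmooth.isUnit_det_polar Q hn (Or.inl (even_two_mul m)) K)]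
  have hLX : (LinearMap.fst K _ K ∘ₗ OrthSmooth.tang U 0 ∘ₗ LinearMap.inl K _ K) X =
      HalfDisc.aU ((U + Uᵀ) * X) := by simp [OrthSmooth.tang]
  rw [hLX, ← sol_deform_eqO H X hO]
  refine ⟨fun h => ((isSol_eqSOE m C _).1 h).1, fun h => sol_of_lift m hQ C (TrivSqZeroExt.fstHom R K K) ?_ _ h ?_⟩
  · intro a b ha hb
    have ha' : a.fst = 0 := ha
    have hb' : b.fst = 0 := hb
    apply TrivSqZeroExt.ext <;> simp [ha', hb']
  · convert hs using 2
    ext i j
    rw [Matrix.map_apply, deform_apply]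
    simp [H]

end Groth.Agent.Lib.QuadGrp99.SO
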