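import Groth.Agent.Lib.QuadGrp99.Cliff.Group.Smooth
import Mathlib.FieldTheory.IsAlgClosed.AlgebraicClosure
import Mathlib.RingTheory.Jacobson.Ring
import Mathlib.RingTheory.FiniteType
import Mathlib.RingTheory.TensorProduct.Finite
import Mathlib.RingTheory.Spectrum.Prime.Topology

/-!
# Connectedness of the fibres through chains of reflections
-/

noncomputable section

open CliffordAlgebra TensorProduct
open scoped Matrix

universe u

namespace Groth.Agent.Lib.QuadGrp99.SO

open Groth.Agent.Lib.QuadGrp99 Groth.Agent.Lib.QuadGrp99.Cliff Groth.Agent.Lib.QuadGrp99.Cliff.Group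

variable {R : Type u} [CommRing R] {n : ℕ} (Q : QuadraticForm R (Fin n → R))

section RM

variable (A : Type u) [CommRing A] [Algebra R A]

/-- The vector with given coordinates. -/
def vec (a : Fin n → A) : A ⊗[R] (Fin n → R) := ∑ i, a i • Rep.bA R n A i

/-- The value of the form. -/
def qv (a : Fin n → A) : A := QA A Q (vec A a)

/-- The polar matrix. -/
def polA (k j : Fin n) : A := algebraMap R A (QuadraticMap.polar Q (Pi.basisFun R (Fin n) k) (Pi.basisFun R (Fin n) j))

/-- The matrix of a reflection. -/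
def Mr (a : Fin n → A) (c : Aˣ) : Matrix (Fin n) (Fin n) A :=
  .of fun i j => (if i = j then 1 else 0) - (↑c⁻¹ : A) * (∑ k, a k * polA Q A k j) * a i

/-- Matrices of products of reflections. -/
inductive RM : Matrix (Fin n) (Fin n) A → ℕ → Prop
  | one : RM 1 0
  | refl (a : Fin n → A) (c : Aˣ) (hc : qv Q A a = c) : RM (Mr Q A a c) 1
  | mul {H H' : Matrix (Fin n) (Fin n) A} {p p' : ℕ} : RM H p → RM H' p' → RM (H * H') (p + p')

variable {A}

theorem repr_vec (a : Fin n → A) (i : Fin n) : (Rep.bA R n A).repr (vec A a) i = a i := by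
  rw [vec, Module.Basis.repr_sum_self]

theorem vec_repr (v : A ⊗[R] (Fin n → R)) : vec A (fun i => (Rep.bA R n A).repr v i) = v :=
  (Rep.bA R n A).sum_repr v

theorem polar_vec_bA (a : Fin n → A) (j : Fin n) :
    QuadraticMap.polar (QA A Q) (vec A a) (Rep.bA R n A j) = ∑ k, a k * polA Q A k j := by
  rw [← QuadraticMap.polarBilin_apply_apply, vec, map_sum, LinearMap.sum_apply]
  refine Finset.sum_congr rfl fun k _ => ?_
  rw [map_smul, LinearMap.smul_apply, smul_eq_mul, QuadraticMap.polarBilin_apply_apply,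
    Module.Basis.baseChange_apply, Module.Basis.baseChange_apply, polar_one_tmul]
  rfl

theorem mat_refl (a : Fin n → A) (c : Aˣ) (hc : QA A Q (vec A a) = c) :
    Rep.mat (Cliff.refl (vec A a) c hc) = Mr Q A a c := by
  ext i j
  rw [Rep.mat, LinearMap.toMatrix_apply, LinearEquiv.coe_coe, refl_apply, map_sub, map_smul, Finsupp.sub_apply,
    Finsupp.smul_apply, repr_vec, Module.Basis.repr_self, Finsupp.single_apply, polar_vec_bA, smul_eq_mul, Mr,
    Matrix.of_apply]
  simp only [eq_comm]

theorem F_ι_vec {B : Type u} [CommRing B] [Algebra R B] (φ : A →ₐ[R] B) (a : Fin n → A) :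
    F Q φ (ι (QA A Q) (vec A a)) = ι (QA B Q) (vec B (φ ∘ a)) := by
  simp only [vec, map_sum, map_smul, F_smul, ← X_eq, F_X, Function.comp_apply]

theorem qv_map {B : Type u} [CommRing B] [Algebra R B] (φ : A →ₐ[R] B) (a : Fin n → A) :
    φ (qv Q A a) = qv Q B (φ ∘ a) := by
  have h := congrArg (F Q φ) (ι_sq_scalar (QA A Q) (vec A a))
  rw [map_mul, F_ι_vec, F_algebraMap, ι_sq_scalar] at h
  exact (Cliff.algebraMap_injective h).symm

theorem Mr_map {B : Type u} [CommRing B] [Algebra R B] (φ : A →ₐ[R] B) (a : Fin n → A) (c : Aˣ) (c' : Bˣ)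
    (hc : φ c = c') : (Mr Q A a c).map φ = Mr Q B (φ ∘ a) c' := by
  have hc' : φ (↑c⁻¹ : A) = (↑c'⁻¹ : B) := by
    rw [show c' = Units.map (φ : A →* B) c from Units.ext hc.symm, ← map_inv]
    rfl
  ext i j
  simp only [Matrix.map_apply, Mr, Matrix.of_apply, map_sub, map_mul, map_sum, hc', Function.comp_apply, polA,
    AlgHom.commutes]
  split_ifs <;> simp

variable {Q}

theorem RM.map {H : Matrix (Fin n) (Fin n) A} {p : ℕ} (h : RM Q A H p) {B : Type u} [CommRing B] [Algebra R B]
    (φ : A →ₐ[R] B) : RM Q B (H.map φ) p := by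
  induction h with
  | one => rw [Matrix.map_one φ (map_zero φ) (map_one φ)]; exact .one
  | refl a c hc =>
    rw [Mr_map Q φ a c (Units.map (φ : A →* B) c) rfl]
    refine .refl _ _ ?_
    rw [← qv_map, hc]
    rfl
  | mul _ _ h1 h2 => rw [Matrix.map_mul]; exact .mul h1 h2

theorem RM.lifted {H : Matrix (Fin n) (Fin n) A} {p : ℕ} (h : RM Q A H p) :
    ∃ (g : (A ⊗[R] (Fin n → R)) ≃ₗ[A] (A ⊗[R] (Fin n → R))) (u : (CC Q A)ˣ),
      g ∈ QuadGrp.O (QA A Q) ∧ Lifted (QA A Q) g p u ∧ Rep.mat g = H := by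
  induction h with
  | one => exact ⟨LinearEquiv.refl A _, 1, one_mem _, lifted_one, LinearMap.toMatrix_id _⟩
  | refl a c hc => exact ⟨_, _, refl_mem _ c hc, lifted_refl (vec A a) c hc, mat_refl Q a c hc⟩
  | mul _ _ h1 h2 =>
    obtain ⟨g, u, hg, hu, rfl⟩ := h1
    obtain ⟨k, w, hk, hw, rfl⟩ := h2
    refine ⟨k.trans g, u * w, mul_mem hg hk, hu.mul hw, ?_⟩
    exact LinearMap.toMatrix_comp _ _ _ _ _

theorem RM.of_rprod {g : (A ⊗[R] (Fin n → R)) ≃ₗ[A] (A ⊗[R] (Fin n → R))} {p : ℕ}
    (h : RProd (QA A Q) g p) : RM Q A (Rep.mat g) p := by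
  induction h with
  | one => rw [show Rep.mat (LinearEquiv.refl A (A ⊗[R] (Fin n → R))) = 1 from LinearMap.toMatrix_id _]; exact .one
  | refl a c hc =>
    obtain ⟨a, rfl⟩ : ∃ x, a = vec A x := ⟨_, (vec_repr a).symm⟩
    rw [mat_refl Q a c hc]
    exact .refl a c hc
  | mul _ _ h1 h2 =>
    rename_i g k p r _ _
    rw [show Rep.mat (k.trans g) = Rep.mat g * Rep.mat k from LinearMap.toMatrix_comp _ _ _ _ _]
    exact .mul h1 h2

theorem Mr_sq (a : Fin n → A) (c : Aˣ) (hc : qv Q A a = c) : Mr Q A a c * Mr Q A a c = 1 := by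
  rw [← mat_refl Q a c hc, Rep.mat, ← LinearMap.toMatrix_comp]
  exact (congrArg _ (reflMap_reflMap (q := QA A Q) (vec A a) c hc)).trans (LinearMap.toMatrix_id _)

theorem Mr_pow (a : Fin n → A) (c : Aˣ) (hc : qv Q A a = c) : ∀ p : ℕ, RM Q A (Mr Q A a c ^ p) p
  | 0 => by rw [pow_zero]; exact .one
  | p + 1 => by rw [pow_succ]; exact .mul (Mr_pow a c hc p) (.refl a c hc)

theorem RM.exists_unit_value {H : Matrix (Fin n) (Fin n) A} {p : ℕ} (h : RM Q A H p) :
    (H = 1 ∧ p = 0) ∨ ∃ (a : Fin n → A) (c : Aˣ), qv Q A a = c := by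
  induction h with
  | one => exact Or.inl ⟨rfl, rfl⟩
  | refl a c hc => exact Or.inr ⟨a, c, hc⟩
  | mul _ _ h1 h2 =>
    rcases h1 with ⟨rfl, rfl⟩ | h1
    · rcases h2 with ⟨rfl, rfl⟩ | h2
      · exact Or.inl ⟨mul_one _, rfl⟩
      · exact Or.inr h2
    · exact Or.inr h1

end RM

variable {κ : Type*} (E : κ → MvPolynomial (Fin n × Fin n) R)

/-- Even products of reflections are points. -/
def HasRefl : Prop :=
  ∀ (A : Type u) [CommRing A] [Algebra R A] (H : Matrix (Fin n) (Fin n) A) (p : ℕ),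
    RM Q A H p → Even p → Rep.IsSol E H

/-- Over algebraically closed fields all points are even products of reflections. -/
def GenRefl : Prop :=
  ∀ (K : Type u) [Field K] [IsAlgClosed K] [Algebra R K] (H : Matrix (Fin n) (Fin n) K),
    Rep.IsSol E H → ∃ p, Even p ∧ RM Q K H p

/-- An idempotent which is constant on rational points is trivial. -/
theorem eq_zero_or_one_of_points {k : Type u} [Field k] [IsAlgClosed k] {T : Type u} [CommRing T] [Algebra k T]
    [Algebra.FiniteType k T] (x : T) (hx : IsIdempotentElem x) (c : k) (hc : c = 0 ∨ c = 1)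
    (key : ∀ φ : T →ₐ[k] k, φ x = c) : x = 0 ∨ x = 1 := by
  have hmax : ∀ I : Ideal T, I.IsMaximal → Ideal.Quotient.mk I x = algebraMap k _ c := by
    intro I hI
    letI := Ideal.Quotient.field I
    haveI : Algebra.FiniteType k (T ⧸ I) :=
      Algebra.FiniteType.of_surjective (Ideal.Quotient.mkₐ k I) (Ideal.Quotient.mkₐ_surjective k I)
    haveI := finite_of_finite_type_of_isJacobsonRing k (T ⧸ I)
    have hbij := IsAlgClosed.algebraMap_bijective_of_isIntegral (k := k) (K := T ⧸ I)
    let i : (T ⧸ I) ≃ₐ[k] k := (AlgEquiv.ofBijective (Algebra.ofId k _) hbij).symm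
    have hi := key (i.toAlgHom.comp (Ideal.Quotient.mkₐ k I))
    rw [← hi]
    exact ((AlgEquiv.ofBijective (Algebra.ofId k _) hbij).apply_symm_apply (Ideal.Quotient.mk I x)).symm
  have kill : ∀ y : T, IsIdempotentElem y → (∀ I : Ideal T, I.IsMaximal → y ∈ I) → y = 0 := by
    intro y hy hm
    have hu : IsUnit (1 - y) := by
      by_contra hnu
      obtain ⟨I, hI, hmem⟩ := exists_max_ideal_of_mem_nonunits (mem_nonunits_iff.2 hnu)
      exact hI.ne_top ((Ideal.eq_top_iff_one _).2 (by simpa using add_mem hmem (hm I hI)))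
    exact hu.mul_left_eq_zero.1 (by rw [mul_sub, mul_one, hy.eq, sub_self] : y * (1 - y) = 0)
  rcases hc with rfl | rfl
  · refine Or.inl (kill x hx fun I hI => Ideal.Quotient.eq_zero_iff_mem.1 ?_)
    rw [hmax I hI, map_zero]
  · refine Or.inr (sub_eq_zero.1 (kill _ hx.one_sub fun I hI => Ideal.Quotient.eq_zero_iff_mem.1 ?_)).symm
    rw [map_sub, hmax I hI, map_one, map_one, sub_self]

/-- Without non-trivial idempotents the spectrum is connected. -/
theorem connectedSpace_of_idempotents {T : Type u} [CommRing T] [Nontrivial T]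
    (h : ∀ x : T, IsIdempotentElem x → x = 0 ∨ x = 1) : ConnectedSpace (PrimeSpectrum T) := by
  haveI : PreconnectedSpace (PrimeSpectrum T) := by
    rw [preconnectedSpace_iff_clopen]
    intro s hs
    obtain ⟨x, hx, rfl⟩ := PrimeSpectrum.isClopen_iff.1 hs
    rcases h x hx with rfl | rfl
    · exact Or.inl (by simp)
    · exact Or.inr (by simp)
  exact ⟨inferInstance⟩

theorem isConnected_range_comap {S T : Type u} [CommRing S] [CommRing T] [ConnectedSpace (PrimeSpectrum T)]
    (j : S →+* T) : IsConnected (Set.range (PrimeSpectrum.comap j)) :=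
  isConnected_range (PrimeSpectrum.continuous_comap j)

variable {Q E} {K : Type u} [Field K] [Algebra R K]

/-- A point as a map out of the coordinate ring of the fibre. -/
def pt {A : Type u} [CommRing A] [Algebra R A] [Algebra K A] [IsScalarTower R K A]
    (H : Matrix (Fin n) (Fin n) A) (hH : Rep.IsSol E H) : K ⊗[R] Rep.coordRing E →ₐ[K] A :=
  Algebra.TensorProduct.lift (Algebra.ofId K A) ((Rep.solEquiv E A).symm ⟨H, hH⟩) fun _ _ => Commute.all _ _

theorem pt_map {A B : Type u} [CommRing A] [Algebra R A] [Algebra K A] [IsScalarTower R K A] [CommRing B] [Algebra R B]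
    [Algebra K B] [IsScalarTower R K B] (ψ : A →ₐ[K] B) (H : Matrix (Fin n) (Fin n) A) (hH : Rep.IsSol E H)
    (H' : Matrix (Fin n) (Fin n) B) (hH' : Rep.IsSol E H') (e : H.map ψ = H') (x : K ⊗[R] Rep.coordRing E) :
    ψ (pt H hH x) = pt H' hH' x := by
  subst e
  refine congrArg (fun f : _ →ₐ[K] B => f x)
    (show ψ.comp (pt H hH) = pt (H.map ψ) hH' from Algebra.TensorProduct.ext (Subsingleton.elim _ _) ?_)
  refine Ideal.Quotient.algHom_ext R (MvPolynomial.algHom_ext fun p => ?_)
  simp [pt, Rep.solEquiv, Rep.evM]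

variable (e : K ⊗[R] Rep.coordRing E)

open Classical in
/-- The value at a point. -/
def ev (H : Matrix (Fin n) (Fin n) K) : K := if h : Rep.IsSol E H then pt H h e else 0

variable {e} (he : IsIdempotentElem e) (hE : HasRefl Q E)

include he hE in
theorem ev_line {H1 H2 : Matrix (Fin n) (Fin n) K} {p1 p2 : ℕ} (h1 : RM Q K H1 p1) (h2 : RM Q K H2 p2)
    (hp : Even (p1 + 1 + p2)) (a b : Fin n → K) (ca cb : Kˣ) (ha : qv Q K a = ca) (hb : qv Q K b = cb) :
    ev e (H1 * Mr Q K a ca * H2) = ev e (H1 * Mr Q K b cb * H2) := by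
  classical
  let at_ : Fin n → Polynomial K := fun i => Polynomial.C (a i) + Polynomial.X * Polynomial.C (b i - a i)
  let f : Polynomial K := qv Q (Polynomial K) at_
  have hf : ∀ s : K, Polynomial.aeval s f = qv Q K (fun i => a i + s * (b i - a i)) := fun s => by
    refine (qv_map Q ((Polynomial.aeval s).restrictScalars R) at_).trans ?_
    congr 1
    funext i
    simp [at_]
  have hf0 : f ≠ 0 := fun h0 => by
    have := hf 0
    rw [h0, map_zero] at this
    simp [ha] at this
    exact ca.ne_zero this.symm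
  let L := Localization.Away f
  haveI : IsDomain L := IsLocalization.isDomain_of_le_nonZeroDivisors _
    (Submonoid.powers_le.2 (mem_nonZeroDivisors_of_ne_zero hf0))
  let jL : Polynomial K →ₐ[R] L := IsScalarTower.toAlgHom R (Polynomial K) L
  let cL : Lˣ := (IsLocalization.Away.algebraMap_isUnit (S := L) f).unit
  have hcL : qv Q L (jL ∘ at_) = cL := (qv_map Q jL at_).symm
  let M : Matrix (Fin n) (Fin n) L :=
    H1.map (IsScalarTower.toAlgHom R K L) * Mr Q L (jL ∘ at_) cL * H2.map (IsScalarTower.toAlgHom R K L)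
  have hM : Rep.IsSol E M := hE L M _ (((h1.map _).mul (.refl _ cL hcL)).mul (h2.map _)) hp
  have hval : ∀ (s : K) (v : Fin n → K) (c : Kˣ), (fun i => a i + s * (b i - a i)) = v → qv Q K v = c →
      ∀ u : L →ₐ[K] K, (∀ P, u (algebraMap (Polynomial K) L P) = Polynomial.aeval s P) →
        u (pt M hM e) = ev e (H1 * Mr Q K v c * H2) := by
    intro s v c hv hc u hu
    have hs : Rep.IsSol E (H1 * Mr Q K v c * H2) := hE K _ _ ((h1.mul (.refl _ c hc)).mul h2) hp
    rw [ev, dif_pos hs]
    refine pt_map u M hM _ hs ?_ e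
    have hK : ∀ H : Matrix (Fin n) (Fin n) K, (H.map (IsScalarTower.toAlgHom R K L)).map (u.restrictScalars R) = H :=
      fun H => by ext i j; simp
    show M.map (u.restrictScalars R) = _
    rw [Matrix.map_mul, Matrix.map_mul, hK, hK, Mr_map Q (u.restrictScalars R) _ cL c]
    · congr 3
      funext i
      show u (algebraMap (Polynomial K) L (at_ i)) = v i
      rw [hu, ← hv]
      simp [at_]
    · show u (algebraMap (Polynomial K) L f) = _
      rw [hu, hf, hv, hc]
  have hunit : ∀ s : K, ∀ v, (fun i => a i + s * (b i - a i)) = v → IsUnit (qv Q K v) →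
      ∀ y : Submonoid.powers f, IsUnit (Polynomial.aeval s (y : Polynomial K)) := by
    rintro s v rfl hv ⟨y, k, rfl⟩
    show IsUnit (Polynomial.aeval s (f ^ k))
    rw [map_pow, hf]
    exact hv.pow k
  have e0 : (fun i => a i + (0 : K) * (b i - a i)) = a := by funext i; ring
  have e1 : (fun i => a i + (1 : K) * (b i - a i)) = b := by funext i; ring
  let u0 : L →ₐ[K] K := IsLocalization.liftAlgHom (hunit 0 a e0 (ha ▸ ca.isUnit))
  let u1 : L →ₐ[K] K := IsLocalization.liftAlgHom (hunit 1 b e1 (hb ▸ cb.isUnit))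
  rw [← hval 0 a ca e0 ha u0 (fun P => IsLocalization.lift_eq _ _),
    ← hval 1 b cb e1 hb u1 (fun P => IsLocalization.lift_eq _ _)]
  rcases IsIdempotentElem.iff_eq_zero_or_one.1 (he.map (pt (K := K) M hM)) with h0 | h0 <;> rw [h0]
  · rw [map_zero, map_zero]
  · rw [map_one, map_one]

include he hE in
theorem ev_pow (a0 : Fin n → K) (c0 : Kˣ) (h0 : qv Q K a0 = c0) {H : Matrix (Fin n) (Fin n) K} {p : ℕ}
    (h : RM Q K H p) : ∀ {H1 H2 : Matrix (Fin n) (Fin n) K} {p1 p2 : ℕ}, RM Q K H1 p1 → RM Q K H2 p2 →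
      Even (p1 + p + p2) → ev e (H1 * H * H2) = ev e (H1 * Mr Q K a0 c0 ^ p * H2) := by
  induction h with
  | one => intros; rw [pow_zero]
  | refl a c hc =>
    intro H1 H2 p1 p2 h1 h2 hp
    rw [pow_one]
    exact ev_line he hE h1 h2 hp a a0 c c0 hc h0
  | mul hA hB ihA ihB =>
    rename_i X Y r s
    intro H1 H2 p1 p2 h1 h2 hp
    rw [pow_add, ← mul_assoc H1, mul_assoc (H1 * X), ihA h1 (hB.mul h2) (by convert hp using 1; omega),
      ← mul_assoc, mul_assoc _ Y, ← mul_assoc H1]
    rw [show H1 * Mr Q K a0 c0 ^ r * (Y * H2) = H1 * Mr Q K a0 c0 ^ r * Y * H2 from (mul_assoc _ _ _).symm]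
    exact ihB (h1.mul (Mr_pow a0 c0 h0 r)) h2 (by convert hp using 1; omega)

include he hE in
theorem ev_const {H : Matrix (Fin n) (Fin n) K} {p : ℕ} (h : RM Q K H p) (hp : Even p) : ev e H = ev e 1 := by
  rcases h.exists_unit_value with ⟨rfl, -⟩ | ⟨a0, c0, h0⟩
  · rfl
  have := ev_pow he hE a0 c0 h0 h .one .one (by simpa using hp)
  rw [one_mul, mul_one, one_mul, mul_one] at this
  rw [this]
  obtain ⟨k, rfl⟩ := hp
  rw [← two_mul, pow_mul, pow_two, Mr_sq a0 c0 h0, one_pow]

include hE in
theorem idempotent_trivial [IsAlgClosed K] [Algebra.FiniteType R (Rep.coordRing E)] (hgen : GenRefl Q E)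
    (he : IsIdempotentElem e) : e = 0 ∨ e = 1 := by
  classical
  have key : ∀ φ : K ⊗[R] Rep.coordRing E →ₐ[K] K, φ e = ev e 1 := by
    intro φ
    let Hs := Rep.solEquiv E K ((φ.restrictScalars R).comp Algebra.TensorProduct.includeRight)
    obtain ⟨p, hp, hr⟩ := hgen K Hs.1 Hs.2
    rw [← ev_const he hE hr hp, ev, dif_pos Hs.2]
    refine congrArg (fun f : _ →ₐ[K] K => f e) (show φ = pt Hs.1 Hs.2 from Algebra.TensorProduct.ext
      (Subsingleton.elim _ _) ?_)
    refine Ideal.Quotient.algHom_ext R (MvPolynomial.algHom_ext fun p => ?_)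
    simp [pt, Hs, Rep.solEquiv, Rep.evM]
  have h01 : ev e 1 = 0 ∨ ev e 1 = 1 := by
    rw [ev]
    split_ifs with h
    · exact IsIdempotentElem.iff_eq_zero_or_one.1 (he.map (pt (K := K) 1 h))
    · exact Or.inl rfl
  exact eq_zero_or_one_of_points e he (ev e 1) h01 key

omit e he hE

variable (Q E) in
/-- The fibres are connected. -/
theorem isConnected_preimage [Algebra.FiniteType R (Rep.coordRing E)] (hE : HasRefl Q E) (hgen : GenRefl Q E)
    (p : PrimeSpectrum R) :
    IsConnected (PrimeSpectrum.comap (algebraMap R (Rep.coordRing E)) ⁻¹' {p}) := by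
  let K := AlgebraicClosure p.asIdeal.ResidueField
  let S := Rep.coordRing E
  have hker : RingHom.ker (algebraMap R K) = p.asIdeal := by
    rw [IsScalarTower.algebraMap_eq R p.asIdeal.ResidueField K,
      RingHom.ker_comp_of_injective _ (RingHom.injective _), Ideal.ker_algebraMap_residueField]
  haveI : Nontrivial (K ⊗[R] S) := by
    have h1 : Rep.IsSol E (1 : Matrix (Fin n) (Fin n) K) := hE K 1 0 .one Even.zero
    exact (pt (K := K) 1 h1).toRingHom.domain_nontrivial
  haveI : ConnectedSpace (PrimeSpectrum (K ⊗[R] S)) :=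
    connectedSpace_of_idempotents (T := K ⊗[R] S) fun x hx => idempotent_trivial hE hgen hx
  let j : S →+* K ⊗[R] S := (Algebra.TensorProduct.includeRight (R := R) (A := K) (B := S)).toRingHom
  have hrange : PrimeSpectrum.comap (algebraMap R S) ⁻¹' {p} = Set.range (PrimeSpectrum.comap (S := K ⊗[R] S) j) := by
    ext q
    constructor
    · intro hq
      have hq' : p.asIdeal = q.asIdeal.comap (algebraMap R S) := (congrArg PrimeSpectrum.asIdeal hq).symm
      let μ := Ideal.ResidueField.map p.asIdeal q.asIdeal (algebraMap R S) hq'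
      let K' := AlgebraicClosure q.asIdeal.ResidueField
      letI : Algebra p.asIdeal.ResidueField K' := ((algebraMap q.asIdeal.ResidueField K').comp μ).toAlgebra
      let i0 : K →ₐ[p.asIdeal.ResidueField] K' := IsAlgClosed.lift
      let i : K →ₐ[R] K' := { i0.toRingHom with
        commutes' := fun r => by
          show i0 (algebraMap R K r) = algebraMap R K' r
          rw [IsScalarTower.algebraMap_apply R p.asIdeal.ResidueField K, i0.commutes, RingHom.algebraMap_toAlgebra,
            RingHom.comp_apply, Ideal.ResidueField.map_algebraMap, IsScalarTower.algebraMap_apply R S K',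
            IsScalarTower.algebraMap_apply S q.asIdeal.ResidueField K'] }
      let g : K ⊗[R] S →ₐ[R] K' :=
        Algebra.TensorProduct.lift i (IsScalarTower.toAlgHom R S K') fun _ _ => Commute.all _ _
      refine ⟨⟨RingHom.ker g.toRingHom, RingHom.ker_isPrime _⟩, PrimeSpectrum.ext (Ideal.ext fun x => ?_)⟩
      show g (1 ⊗ₜ[R] x) = 0 ↔ x ∈ q.asIdeal
      rw [Algebra.TensorProduct.lift_tmul, map_one, one_mul, IsScalarTower.coe_toAlgHom',
        IsScalarTower.algebraMap_apply S q.asIdeal.ResidueField K', map_eq_zero,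
        Ideal.algebraMap_residueField_eq_zero]
    · rintro ⟨P, rfl⟩
      refine PrimeSpectrum.ext (Ideal.ext fun r => ?_)
      show j (algebraMap R S r) ∈ P.asIdeal ↔ r ∈ p.asIdeal
      rw [show r ∈ p.asIdeal ↔ algebraMap R K r = 0 from (SetLike.ext_iff.1 hker r).symm,
        show j (algebraMap R S r) = (algebraMap R K r) ⊗ₜ[R] (1 : S) by
          show (1 : K) ⊗ₜ[R] algebraMap R S r = algebraMap R K r ⊗ₜ[R] (1 : S)
          rw [Algebra.algebraMap_eq_smul_one, Algebra.algebraMap_eq_smul_one, TensorProduct.smul_tmul]]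
      constructor
      · intro hm
        by_contra hne
        exact P.2.ne_top (Ideal.eq_top_of_isUnit_mem _ hm
          ((isUnit_iff_ne_zero.2 hne).map (Algebra.TensorProduct.includeLeft (R := R) (S := R) (A := K) (B := S))))
      · intro h0
        rw [h0, TensorProduct.zero_tmul]
        exact zero_mem _
  rw [hrange]
  exact isConnected_range_comap (S := S) (T := K ⊗[R] S) j

end Groth.Agent.Lib.QuadGrp99.SO
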