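import Groth.Agent.Lib.QuadGrp99.SO.Even
import Groth.Agent.Lib.QuadGrp99.SO.Connected
import Mathlib.AlgebraicGeometry.Fiber

/-!
# The special orthogonal groups are smooth with connected fibres
-/

noncomputable section

open CliffordAlgebra TensorProduct CategoryTheory AlgebraicGeometry
open scoped Matrix

universe u

namespace Groth.Agent.Lib.QuadGrp99.SO

open Groth.Agent.Lib.QuadGrp99 Groth.Agent.Lib.QuadGrp99.Cliff Groth.Agent.Lib.QuadGrp99.Cliff.Group

variable {R : Type u} [CommRing R]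

section Scheme

variable {n : ℕ} {κ : Type*} [Finite κ] (E : κ → MvPolynomial (Fin n × Fin n) R)
  (S : ∀ (A : Type u) [CommRing A] [Algebra R A],
    Subgroup ((A ⊗[R] (Fin n → R)) ≃ₗ[A] (A ⊗[R] (Fin n → R))))
  (hmem : ∀ (A : Type u) [CommRing A] [Algebra R A] (h : (A ⊗[R] (Fin n → R)) ≃ₗ[A] (A ⊗[R] (Fin n → R))),
    h ∈ S A ↔ Rep.IsSol E (Rep.mat h))
  (hunit : ∀ (A : Type u) [CommRing A] [Algebra R A] (H : Matrix (Fin n) (Fin n) A), Rep.IsSol E H → IsUnit H.det)
  {G : Over (Spec (CommRingCat.of R))} [GrpObj G] (D : QuadGrp.LinRep R (Fin n → R) S G)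
  (Q : QuadraticForm R (Fin n → R))

include hmem hunit D in
theorem smooth_connected (hfs : Algebra.FormallySmooth R (Rep.coordRing E)) (d : ℕ)
    (hder : ∀ (K : Type u) [Field K] [Algebra R K] [Algebra (Rep.coordRing E) K]
      [IsScalarTower R (Rep.coordRing E) K], Module.finrank K (Derivation R (Rep.coordRing E) K) = d)
    (hE : HasRefl Q E) (hgen : GenRefl Q E) :
    SmoothOfRelativeDimension d G.hom ∧ ∀ s : ↥(Spec (CommRingCat.of R)), ConnectedSpace ↥(G.hom.fiber s) := by
  haveI := Rep.finitePresentation E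
  haveI : Algebra.Smooth R (Rep.coordRing E) := ⟨hfs, inferInstance⟩
  obtain ⟨Φ⟩ := Rep.exists_iso E S hmem hunit D
  have hiso : IsIso Φ.hom.left := inferInstanceAs (IsIso ((Over.forget _).map Φ.hom))
  let e := Scheme.homeoOfIso (asIso Φ.hom.left)
  let f := Spec.map (CommRingCat.ofHom (algebraMap R (Rep.coordRing E)))
  have hw : G.hom = Φ.hom.left ≫ f := (Over.w Φ.hom).symm
  constructor
  · rw [hw, MorphismProperty.cancel_left_of_respectsIso (@SmoothOfRelativeDimension d),
      HasRingHomProperty.Spec_iff (P := @SmoothOfRelativeDimension d)]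
    exact locally_of_finrank_derivation d hder
  · intro s
    have h1 : _root_.IsConnected (f.base ⁻¹' {s}) := isConnected_preimage Q E hE hgen s
    have h2 : _root_.IsConnected (G.hom.base ⁻¹' {s}) := by
      rw [hw]
      exact e.isConnected_preimage.2 h1
    haveI := isConnected_iff_connectedSpace.1 h2
    exact (G.hom.fiberHomeo s).symm.surjective.connectedSpace (G.hom.fiberHomeo s).symm.continuous

end Scheme

theorem infRes_field (K : Type u) [Field K] [Infinite K] : InfRes K :=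
  ⟨Infinite.natEmbedding K, fun _ _ h => isUnit_iff_ne_zero.2 (sub_ne_zero.2 fun e => h ((Infinite.natEmbedding K).injective e))⟩

/-- The special orthogonal group in even rank. -/
theorem even_smooth_connected (m : ℕ) (Q : QuadraticForm R (Fin (2 * m) → R)) (hQ : QuadGrp.IsRegular Q)
    (G : Over (Spec (CommRingCat.of R))) [GrpObj G] (D : QuadGrp.SOrthRep Q G) :
    SmoothOfRelativeDimension (m * (2 * m - 1)) G.hom ∧
      ∀ s : ↥(Spec (CommRingCat.of R)), ConnectedSpace ↥(G.hom.fiber s) := by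
  obtain ⟨C⟩ : Nonempty (Cover Q) := by
    rcases subsingleton_or_nontrivial R with hR | hR
    · exact ⟨⟨∅, Subsingleton.elim _ _, fun _ => 0, fun _ => 0, fun _ => 0, fun h hh => absurd hh (Finset.notMem_empty h),
        fun h hh => absurd hh (Finset.notMem_empty h)⟩⟩
    · exact nonempty_cover hQ m (Module.finrank_fin_fun R)
  have hn := nondeg_even m hQ
  refine smooth_connected (eqSOE m C) (fun A _ _ => QuadGrp.sorth Q A) (fun A _ _ => mem_sorth_iff m hQ C)
    (fun A _ _ H hH => OrthSmooth.isUnit_det_sol Q hn A H ((isSol_eqSOE m C H).1 hH).1) D Q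
    (formallySmooth m hQ C) _ (fun K _ _ _ _ => finrank_derivation_even m hQ C K) ?_ ?_
  · intro A _ _ H p hH hp
    obtain ⟨g, u, hg, hu, rfl⟩ := hH.lifted
    refine (isSol_mat_iff m C g hg).2 fun h hh => ?_
    rw [defect, sub_eq_zero]
    exact hu.map_split_even hp hg _ (toBC_mem_evenOdd A Q 0 _ (C.good h hh).even)
      (toBC_commute_even A Q _ (spread_central (C.good h hh).rel))
  · intro K _ _ _ H hH
    have hH' := (isSol_eqSOE m C H).1 hH
    obtain ⟨g, hg, rfl⟩ := exists_g hn K H hH'.1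
    have ht := trivial_of_sq m hQ C g hg fun h hh => by rw [(isSol_mat_iff m C g hg).1 hH h hh, zero_mul]
    have hRK := regular_QA K Q hQ
    obtain ⟨p, u, hu⟩ := exists_lifted (A := K) (V := K ⊗[R] (Fin (2 * m) → R)) (infRes_field K) hRK m (finrank_bA K) g hg
    refine ⟨p, ?_, RM.of_rprod hu.prod⟩
    rcases Nat.even_or_odd p with hp | hp
    · exact hp
    obtain ⟨z, hz⟩ := exists_split_local (R := K) (M := K ⊗[R] (Fin (2 * m) → R)) hRK m (finrank_bA K)
    exact absurd ((hu.map_split_odd hp hg hz).symm.trans (ht ⟨z, hz.even⟩ hz.mem_center)) hz.one_sub_ne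

/-- The special orthogonal group in odd rank. -/
theorem odd_smooth_connected (m : ℕ) (Q : QuadraticForm R (Fin (2 * m + 1) → R))
    (hQ : QuadGrp.IsSemiregular (Pi.basisFun R (Fin (2 * m + 1))) (LinearEquiv.refl R R) Q)
    (G : Over (Spec (CommRingCat.of R))) [GrpObj G] (D : QuadGrp.SOrthRep Q G) :
    SmoothOfRelativeDimension (m * (2 * m + 1)) G.hom ∧
      ∀ s : ↥(Spec (CommRingCat.of R)), ConnectedSpace ↥(G.hom.fiber s) := by
  have hn := nondeg_odd m hQ
  have hodd := odd_two_mul_add_one m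
  have hmem : ∀ (A : Type u) [CommRing A] [Algebra R A]
      (g : (A ⊗[R] (Fin (2 * m + 1) → R)) ≃ₗ[A] (A ⊗[R] (Fin (2 * m + 1) → R))),
      g ∈ QuadGrp.sorth Q A ↔ Rep.IsSol (OrthSmooth.eqSO Q) (Rep.mat g) := by
    intro A _ _ g
    rcases subsingleton_or_nontrivial A with hA | hA
    · haveI := Module.subsingleton A (A ⊗[R] (Fin (2 * m + 1) → R))
      refine iff_of_true ?_ fun k => Subsingleton.elim _ _
      rw [show g = 1 from LinearEquiv.ext fun v => Subsingleton.elim _ _]
      exact one_mem _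
    have e : QuadGrp.sorth Q A = QuadGrp.SO' (QA A Q) := by
      rw [QuadGrp.sorth, QuadGrp.SO, finrank_bA A, if_neg (Nat.not_even_iff_odd.2 hodd)]
    rw [e, ← OrthSmooth.mem_sorth'_iff Q A g]
    exact and_congr (mem_O_QA_iff Q g) Iff.rfl
  refine smooth_connected (OrthSmooth.eqSO Q) (fun A _ _ => QuadGrp.sorth Q A) hmem
    (fun A _ _ H hH => OrthSmooth.isUnit_det_sol Q hn A H ((OrthSmooth.isSol_eqSO Q H).1 hH).1) D Q
    (OrthSmooth.formallySmooth_SO Q hn (Or.inl hodd)) _ ?_ ?_ ?_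
  · intro K _ _ _ _
    set H := ptMat (OrthSmooth.eqSO Q) (K := K)
    have hs : Rep.IsSol (OrthSmooth.eqSO Q) H := (Rep.solEquiv _ K _).2
    obtain ⟨hO, hd⟩ := (OrthSmooth.isSol_eqSO Q H).1 hs
    set U := (OrthSmooth.matU Q).map (algebraMap R K)
    rw [finrank_derivation (OrthSmooth.eqSO Q) (OrthSmooth.tang U ((m : K) + 1) ∘ₗ LinearMap.inl K _ K)
      (by rw [hd]; exact isUnit_one) fun X => ?_,
      finrank_tang_odd m U (OrthSmooth.isUnit_h Q hn hodd K).ne_zero]
    have hLX : (OrthSmooth.tang U ((m : K) + 1) ∘ₗ LinearMap.inl K _ K) X =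
        (HalfDisc.aU ((U + Uᵀ) * X), X.trace) := by simp [OrthSmooth.tang]
    rw [hLX, Prod.mk_eq_zero, OrthSmooth.isSol_eqSO, sol_deform_eqO H X hO]
    refine and_congr_right fun _ => ?_
    rw [det_deform, hd, one_mul, ← TrivSqZeroExt.inl_one K, add_eq_left]
    exact ⟨fun h => by simpa using congrArg TrivSqZeroExt.snd h, fun h => by rw [h, TrivSqZeroExt.inr_zero]⟩
  · intro A _ _ H p hH hp
    obtain ⟨g, u, hg, hu, rfl⟩ := hH.lifted
    refine (OrthSmooth.isSol_eqSO Q _).2 ⟨(OrthSmooth.mem_orth_iff Q A g).1 ((mem_O_QA_iff Q g).1 hg), ?_⟩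
    rw [LinearMap.det_toMatrix, hu.det, hp.neg_one_pow]
  · intro K _ _ _ H hH
    obtain ⟨hO, hd⟩ := (OrthSmooth.isSol_eqSO Q H).1 hH
    obtain ⟨g, hg, rfl⟩ := exists_g hn K H hO
    obtain ⟨F⟩ := Odd.exists_frame (infRes_field K) (Odd.adm_of_semiregular hodd (Rep.bA R (2 * m + 1) K) (QA K Q)
      (semiregular_bA m hQ K)) m (finrank_bA K)
    rw [LinearMap.det_toMatrix] at hd
    obtain ⟨p, u, hp, hu⟩ := F.exists_even_lift (infRes_field K) g hg hd
    exact ⟨p, hp, RM.of_rprod hu.prod⟩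

end Groth.Agent.Lib.QuadGrp99.SO
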