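import Groth.Agent.Lib.QuadGrp99.OrthSmooth
import Mathlib.RingTheory.Smooth.StandardSmoothOfFree
import Mathlib.RingTheory.RingHom.StandardSmooth
import Mathlib.RingTheory.Etale.Kaehler
import Mathlib.RingTheory.Localization.Module
import Mathlib.Algebra.TrivSqZeroExt.Basic
import Mathlib.Data.Sym.Card
import Mathlib.LinearAlgebra.FiniteDimensional.Lemmas

/-!
# Relative dimension from the tangent spaces
-/

noncomputable section

open scoped Matrix

universe u

namespace Groth.Agent.Lib.QuadGrp99.SO

open Groth.Agent.Lib.QuadGrp99 QuadGrp HalfDisc TrivSqZeroExt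

/-- A smooth algebra whose tangent spaces have dimension `d` is smooth of relative dimension `d`. -/
theorem locally_of_finrank_derivation {R S : Type u} [CommRing R] [CommRing S] [Algebra R S] [Algebra.Smooth R S] (d : ℕ)
    (h : ∀ (K : Type u) [Field K] [Algebra R K] [Algebra S K] [IsScalarTower R S K],
      Module.finrank K (Derivation R S K) = d) :
    RingHom.Locally (RingHom.IsStandardSmoothOfRelativeDimension d) (algebraMap R S) := by
  classical
  rw [RingHom.locally_iff_span_eq_top]
  by_contra hne
  obtain ⟨p, hp, hle⟩ := Ideal.exists_le_maximal _ hne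
  obtain ⟨f, hf, hstd⟩ := Algebra.IsSmoothAt.exists_notMem_isStandardSmooth R p
  refine hf (hle (Ideal.subset_span ?_))
  show RingHom.IsStandardSmoothOfRelativeDimension d ((algebraMap S (Localization.Away f)).comp (algebraMap R S))
  rw [← IsScalarTower.algebraMap_eq R S (Localization.Away f), RingHom.isStandardSmoothOfRelativeDimension_algebraMap]
  let K := p.ResidueField
  have hfK : IsUnit (algebraMap S K f) :=
    isUnit_iff_ne_zero.2 fun h0 => hf (Ideal.algebraMap_residueField_eq_zero.1 h0)
  let ψ : Localization.Away f →+* K := IsLocalization.Away.lift f hfK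
  letI : Algebra (Localization.Away f) K := ψ.toAlgebra
  haveI : IsScalarTower S (Localization.Away f) K :=
    IsScalarTower.of_algebraMap_eq fun x => (IsLocalization.Away.lift_eq f hfK x).symm
  haveI : IsScalarTower R (Localization.Away f) K := IsScalarTower.to₁₃₄ R S (Localization.Away f) K
  haveI : Nontrivial (Localization.Away f) := ψ.domain_nontrivial
  rw [Algebra.IsStandardSmoothOfRelativeDimension.iff_of_isStandardSmooth]
  let b := Module.Free.chooseBasis (Localization.Away f) Ω[Localization.Away f⁄R]
  haveI : Module.Finite (Localization.Away f) Ω[Localization.Away f⁄R] := inferInstance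
  let loc : Ω[S⁄R] →ₗ[S] Ω[Localization.Away f⁄R] := KaehlerDifferential.map R R S (Localization.Away f)
  haveI : IsLocalizedModule (Submonoid.powers f) loc := KaehlerDifferential.isLocalizedModule_map (R := R) S (Localization.Away f) (Submonoid.powers f)
  have hunit : ∀ x : Submonoid.powers f, IsUnit (algebraMap S (Module.End S K) x) := fun x => by
    rw [Module.End.isUnit_iff]
    obtain ⟨k, hk⟩ := x.2
    have hx : algebraMap S K (x : S) ≠ 0 := by
      rw [← hk, map_pow]; exact pow_ne_zero _ hfK.ne_zero
    constructor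
    · intro a a' ha
      simp only [Module.algebraMap_end_apply, Algebra.smul_def] at ha
      exact mul_left_cancel₀ hx ha
    · intro a
      refine ⟨(algebraMap S K x)⁻¹ * a, ?_⟩
      simp only [Module.algebraMap_end_apply, Algebra.smul_def]
      rw [← mul_assoc, mul_inv_cancel₀ hx, one_mul]
  let Φ : (Module.Free.ChooseBasisIndex (Localization.Away f) Ω[Localization.Away f⁄R] → K) →ₗ[K]
      Derivation R S K :=
    { toFun := fun v => ((b.constr K v).compDer (KaehlerDifferential.D R (Localization.Away f))).compAlgebraMap S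
      map_add' := fun v w => by ext s; simp [map_add]
      map_smul' := fun c v => by ext s; simp [map_smul] }
  have hΦ : ∀ v s, Φ v s = b.constr K v (loc (KaehlerDifferential.D R S s)) := fun v s => by
    simp [Φ, loc]
  have hbij : Function.Bijective Φ := by
    constructor
    · intro v w hvw
      refine (b.constr K).injective (LinearMap.restrictScalars_injective S ?_)
      refine IsLocalizedModule.ext (Submonoid.powers f) loc hunit (LinearMap.ext_on
        (KaehlerDifferential.span_range_derivation R S) ?_)
      rintro _ ⟨s, rfl⟩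
      have := congrArg (fun D : Derivation R S K => D s) hvw
      simpa [hΦ] using this
    · intro δ
      let χ := IsLocalizedModule.lift (Submonoid.powers f) loc δ.liftKaehlerDifferential hunit
      let χ' := LinearMap.extendScalarsOfIsLocalization (Submonoid.powers f) (Localization.Away f) χ
      refine ⟨fun i => χ' (b i), ?_⟩
      have e : b.constr K (fun i => χ' (b i)) = χ' := b.ext fun i => by simp
      ext s
      rw [hΦ, e]
      show χ (loc _) = δ s
      rw [show χ (loc _) = δ.liftKaehlerDifferential (KaehlerDifferential.D R S s) from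
        LinearMap.congr_fun (IsLocalizedModule.lift_comp (Submonoid.powers f) loc _ hunit) _,
        Derivation.liftKaehlerDifferential_comp_D]
  have hd := h K
  rw [← (LinearEquiv.ofBijective Φ hbij).finrank_eq, Module.finrank_pi] at hd
  rw [Module.Free.rank_eq_card_chooseBasisIndex, Cardinal.mk_fintype, hd]

variable {R : Type u} [CommRing R] {n : ℕ} {κ : Type*} (E : κ → MvPolynomial (Fin n × Fin n) R)
  (K : Type u) [Field K] [Algebra R K]

/-- An infinitesimal deformation of a matrix. -/
def deform (H X : Matrix (Fin n) (Fin n) K) : Matrix (Fin n) (Fin n) (TrivSqZeroExt K K) :=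
  H.map inl * (1 + X.map inr)

variable {K}

theorem inl_mul_map (H X : Matrix (Fin n) (Fin n) K) :
    (H.map inl : Matrix (Fin n) (Fin n) (TrivSqZeroExt K K)) * X.map inr = (H * X).map inr := by
  ext i j : 1
  rw [Matrix.map_apply, Matrix.mul_apply, Matrix.mul_apply,
    show (inr (∑ k, H i k * X k j) : TrivSqZeroExt K K) = inrHom K K (∑ k, H i k * X k j) from rfl, map_sum]
  exact Finset.sum_congr rfl fun k _ => inl_mul_inr _ _

theorem deform_apply (H X : Matrix (Fin n) (Fin n) K) (i j : Fin n) :
    deform K H X i j = inl (H i j) + inr ((H * X) i j) := by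
  rw [deform, Matrix.mul_add, Matrix.mul_one, inl_mul_map, Matrix.add_apply, Matrix.map_apply, Matrix.map_apply]

variable [Algebra (Rep.coordRing E) K] [IsScalarTower R (Rep.coordRing E) K]

/-- The matrix of the point. -/
def ptMat : Matrix (Fin n) (Fin n) K :=
  (Rep.solEquiv E K (IsScalarTower.toAlgHom R (Rep.coordRing E) K)).1

/-- Derivations at a point are the tangent vectors. -/
theorem finrank_derivation {W : Type*} [AddCommGroup W] [Module K W] (L : Matrix (Fin n) (Fin n) K →ₗ[K] W)
    (hu : IsUnit (ptMat E (K := K)).det)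
    (hL : ∀ X, Rep.IsSol E (deform K (ptMat E) X) ↔ L X = 0) :
    Module.finrank K (Derivation R (Rep.coordRing E) K) = Module.finrank K (LinearMap.ker L) := by
  let S := Rep.coordRing E
  set H := ptMat E (K := K) with hH
  let x : Fin n × Fin n → S := fun p => Ideal.Quotient.mk _ (MvPolynomial.X p)
  let τ : Derivation R S K →ₗ[K] Matrix (Fin n) (Fin n) K :=
    { toFun := fun D => H⁻¹ * Matrix.of fun i j => D (x (i, j))
      map_add' := fun D D' => by rw [← Matrix.mul_add]; congr 1
      map_smul' := fun c D => by rw [RingHom.id_apply, ← Matrix.mul_smul]; congr 1 }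
  have hτ : ∀ D, H * τ D = Matrix.of fun i j => D (x (i, j)) := fun D => by
    show H * (H⁻¹ * _) = _
    rw [← Matrix.mul_assoc, Matrix.mul_nonsing_inv _ hu, Matrix.one_mul]
  have hinj : Function.Injective τ := by
    intro D D' hDD
    have h0 : ∀ p, D (x p) = D' (x p) := fun p => by
      have e := congrFun (congrFun (hτ D) p.1) p.2
      rw [hDD, hτ D'] at e
      exact e.symm
    have key : ∀ P : MvPolynomial (Fin n × Fin n) R, D (Ideal.Quotient.mk _ P) = D' (Ideal.Quotient.mk _ P) := fun P => by
      induction P using MvPolynomial.induction_on with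
      | C r => exact (D.map_algebraMap r).trans (D'.map_algebraMap r).symm
      | add P P' hP hP' => rw [map_add, map_add, map_add, hP, hP']
      | mul_X P p hP => rw [map_mul, D.leibniz, D'.leibniz, hP, h0]
    ext s
    obtain ⟨P, rfl⟩ := Ideal.Quotient.mk_surjective s
    exact key P
  have hrange : LinearMap.range τ = LinearMap.ker L := by
    ext X
    rw [LinearMap.mem_ker, ← hL]
    constructor
    · rintro ⟨D, rfl⟩
      let f : S →ₐ[R] TrivSqZeroExt K K :=
        { toFun := fun s => inl (algebraMap S K s) + inr (D s)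
          map_one' := by simp
          map_zero' := by simp
          map_add' := fun a b => by apply TrivSqZeroExt.ext <;> simp
          map_mul' := fun a b => by
            apply TrivSqZeroExt.ext
            · simp
            · simp [Algebra.smul_def]
              ring
          commutes' := fun r => by
            rw [D.map_algebraMap, inr_zero, add_zero, ← IsScalarTower.algebraMap_apply R S K]
            rfl }
      have e : deform K H (τ D) = (Rep.solEquiv E _ f).1 := by
        ext i j : 1
        rw [deform_apply, hτ]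
        rfl
      rw [e]
      exact (Rep.solEquiv E _ f).2
    · intro hX
      let f := (Rep.solEquiv E (TrivSqZeroExt K K)).symm ⟨_, hX⟩
      have hf : ∀ p, f (x p) = inl (H p.1 p.2) + inr ((H * X) p.1 p.2) := fun p => by
        show (Rep.solEquiv E _ f).1 p.1 p.2 = _
        rw [Equiv.apply_symm_apply]
        exact deform_apply H X _ _
      have hfst : ∀ s, (f s).fst = algebraMap S K s := fun s => by
        refine congrArg (fun k : S →ₐ[R] K => k s)
          (show ((fstHom R K K).comp f) = IsScalarTower.toAlgHom R S K from ?_)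
        refine Ideal.Quotient.algHom_ext R (MvPolynomial.algHom_ext fun p => ?_)
        show (f (x p)).fst = H p.1 p.2
        rw [hf]
        simp
      let D : Derivation R S K :=
        { toFun := fun s => (f s).snd
          map_add' := fun a b => by rw [map_add, snd_add]
          map_smul' := fun r a => by rw [map_smul, snd_smul, RingHom.id_apply]
          map_one_eq_zero' := by simp
          leibniz' := fun a b => by
            show (f (a * b)).snd = a • (f b).snd + b • (f a).snd
            rw [map_mul, TrivSqZeroExt.snd_mul, hfst, hfst]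
            simp [Algebra.smul_def]
            ring }
      refine ⟨D, ?_⟩
      show H⁻¹ * _ = X
      rw [show (Matrix.of fun i j => D (x (i, j))) = H * X by
        ext i j
        show (f (x (i, j))).snd = _
        rw [hf]
        simp, ← Matrix.mul_assoc, Matrix.nonsing_inv_mul _ hu, Matrix.one_mul]
  rw [← hrange, LinearMap.finrank_range_of_inj hinj]

section Orth

variable {Q : QuadraticForm R (Fin n → R)}

omit E [Algebra (Rep.coordRing E) K] [IsScalarTower R (Rep.coordRing E) K] in
theorem ker_fst_sq : (RingHom.ker (fstHom K K K).toRingHom) ^ 2 = ⊥ := by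
  rw [eq_bot_iff, pow_two, Ideal.mul_le]
  intro a ha b hb
  rw [Ideal.mem_bot]
  have ha' : a.fst = 0 := ha
  have hb' : b.fst = 0 := hb
  apply TrivSqZeroExt.ext <;> simp [ha', hb']

omit E [Algebra (Rep.coordRing E) K] [IsScalarTower R (Rep.coordRing E) K] in
theorem map_inl_U (M : Matrix (Fin n) (Fin n) R) :
    M.map (algebraMap R (TrivSqZeroExt K K)) = (M.map (algebraMap R K)).map inl := by
  ext i j : 1
  rfl

omit E [Algebra (Rep.coordRing E) K] [IsScalarTower R (Rep.coordRing E) K] in
theorem step_dual (U H X : Matrix (Fin n) (Fin n) K) (hH : aU (Hᵀ * U * H) = aU U) :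
    aU ((deform K H X)ᵀ * U.map inl * deform K H X) =
      fun s => inl (aU U s) + inr (aU ((U + Uᵀ) * X) s) := by
  have hH' : ∀ s, aU ((H.map inl)ᵀ * U.map inl * H.map inl) s = (inl (aU U s) : TrivSqZeroExt K K) := fun s => by
    rw [← hH, show (inl (aU (Hᵀ * U * H) s) : TrivSqZeroExt K K) = inlHom K K (aU (Hᵀ * U * H) s) from rfl,
      OrthSmooth.aU_map, Matrix.map_mul, Matrix.map_mul, Matrix.transpose_map]
    rfl
  have hU : ∀ s, aU (U.map inl) s = (inl (aU U s) : TrivSqZeroExt K K) := fun s =>
    (OrthSmooth.aU_map (inlHom K K) U s).symm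
  rw [deform, OrthSmooth.step (I := RingHom.ker (fstHom K K K).toRingHom) ker_fst_sq _ _ _
    (fun s => by rw [hH', hU, sub_self]; exact zero_mem _)
    (fun i j => by show (inr (X i j) : TrivSqZeroExt K K).fst = 0; simp),
    ← Matrix.transpose_map (M := U), ← Matrix.map_add _ (fun a b => inl_add K a b), inl_mul_map]
  funext s
  rw [Pi.add_apply, hH']
  congr 1
  induction s using Sym2.ind with
  | h i j =>
    rw [aU_mk, aU_mk]
    split_ifs <;> simp

omit E [Algebra (Rep.coordRing E) K] [IsScalarTower R (Rep.coordRing E) K] in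
theorem sol_deform_eqO (H X : Matrix (Fin n) (Fin n) K) (hH : Rep.IsSol (OrthSmooth.eqO Q) H) :
    Rep.IsSol (OrthSmooth.eqO Q) (deform K H X) ↔
      aU (((OrthSmooth.matU Q).map (algebraMap R K) + ((OrthSmooth.matU Q).map (algebraMap R K))ᵀ) * X) = 0 := by
  rw [OrthSmooth.isSol_eqO, map_inl_U, step_dual _ H X ((OrthSmooth.isSol_eqO Q H).1 hH)]
  simp only [funext_iff, Pi.zero_apply]
  refine forall_congr' fun s => ?_
  rw [show aU (((OrthSmooth.matU Q).map (algebraMap R K)).map inl) s =
    (inl (aU ((OrthSmooth.matU Q).map (algebraMap R K)) s) : TrivSqZeroExt K K) from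
      (OrthSmooth.aU_map (inlHom K K) _ s).symm, add_eq_left]
  exact ⟨fun h => by simpa using congrArg TrivSqZeroExt.snd h, fun h => by rw [h, inr_zero]⟩

omit E [Algebra (Rep.coordRing E) K] [IsScalarTower R (Rep.coordRing E) K] in
theorem det_deform (H X : Matrix (Fin n) (Fin n) K) :
    (deform K H X).det = inl H.det + inr (H.det * X.trace) := by
  rw [deform, Matrix.det_mul, OrthSmooth.det_one_add (I := RingHom.ker (fstHom K K K).toRingHom) ker_fst_sq _
    (fun i j => by show (inr (X i j) : TrivSqZeroExt K K).fst = 0; simp)]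
  rw [show (H.map inl).det = (inl H.det : TrivSqZeroExt K K) from ((inlHom K K).map_det H).symm,
    show (X.map inr).trace = (inr X.trace : TrivSqZeroExt K K) by
      simp only [Matrix.trace, Matrix.diag, Matrix.map_apply, ← inrHom_apply, map_sum],
    mul_add, mul_one, inl_mul_inr, smul_eq_mul]

omit E [Algebra (Rep.coordRing E) K] [IsScalarTower R (Rep.coordRing E) K] in
/-- The tangent space of the orthogonal group in even rank. -/
theorem finrank_tang_even (m : ℕ) (U : Matrix (Fin (2 * m)) (Fin (2 * m)) K) (hP : IsUnit (U + Uᵀ).det) :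
    Module.finrank K (LinearMap.ker (LinearMap.fst K _ K ∘ₗ OrthSmooth.tang U 0 ∘ₗ LinearMap.inl K _ K)) =
      m * (2 * m - 1) := by
  set L := LinearMap.fst K _ K ∘ₗ OrthSmooth.tang U 0 ∘ₗ LinearMap.inl K _ K
  have hLX : ∀ X, L X = aU ((U + Uᵀ) * X) := fun X => by simp [L, OrthSmooth.tang]
  have hsurj : LinearMap.range L = ⊤ := LinearMap.range_eq_top.2 fun d =>
    ⟨(U + Uᵀ)⁻¹ * OrthSmooth.upper d, by
      rw [hLX, ← Matrix.mul_assoc, Matrix.mul_nonsing_inv _ hP, Matrix.one_mul, OrthSmooth.aU_upper]⟩
  have h := L.finrank_range_add_finrank_ker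
  rw [hsurj, finrank_top, Module.finrank_pi, Sym2.card, Fintype.card_fin, Module.finrank_matrix,
    Fintype.card_fin, Module.finrank_self, mul_one, Nat.choose_two_right] at h
  rw [Nat.add_sub_cancel] at h
  rcases Nat.eq_zero_or_pos m with rfl | hm
  · simp at h ⊢
    omega
  obtain ⟨k, rfl⟩ : ∃ k, m = k + 1 := ⟨m - 1, by omega⟩
  have e : (2 * (k + 1) + 1) * (2 * (k + 1)) / 2 = (2 * (k + 1) + 1) * (k + 1) := by
    rw [show (2 * (k + 1) + 1) * (2 * (k + 1)) = 2 * ((2 * (k + 1) + 1) * (k + 1)) by ring]
    exact Nat.mul_div_cancel_left _ two_pos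
  rw [e] at h
  rw [show 2 * (k + 1) - 1 = 2 * k + 1 by omega]
  nlinarith

omit E [Algebra (Rep.coordRing E) K] [IsScalarTower R (Rep.coordRing E) K] in
theorem tang_snd_zero (m : ℕ) (hn : n = 2 * m + 1) (U : Matrix (Fin n) (Fin n) K) (hU : h U ≠ 0)
    (X : Matrix (Fin n) (Fin n) K) (c : K) (hXc : OrthSmooth.tang U ((m : K) + 1) (X, c) = 0) : c = 0 := by
  have h1 : ∀ s, aU ((U + Uᵀ) * X) s = -(c * aU U s) := fun s => by
    have := congrFun (congrArg Prod.fst hXc) s
    simp [OrthSmooth.tang] at this
    linear_combination this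
  have h2 : X.trace = -(c * ((m : K) + 1)) := by
    have := congrArg Prod.snd hXc
    simp [OrthSmooth.tang] at this
    linear_combination this
  have hone : aU ((1 : Matrix (Fin n) (Fin n) K)ᵀ * U * 1) = aU U := by simp
  set e : TrivSqZeroExt K K := inr c with he
  have hscale : aU ((deform K 1 X)ᵀ * U.map inl * deform K 1 X) = aU ((1 - e) • U.map inl) := by
    rw [step_dual U 1 X hone, OrthSmooth.aU_smul]
    funext s
    rw [Pi.smul_apply, smul_eq_mul, show aU (U.map inl) s = (inl (aU U s) : TrivSqZeroExt K K) from
      (OrthSmooth.aU_map (inlHom K K) U s).symm, sub_mul, one_mul, he, inr_mul_inl, h1]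
    apply TrivSqZeroExt.ext <;> simp [mul_comm]
  have hdet : (deform K 1 X).det = 1 - e * ((m : TrivSqZeroExt K K) + 1) := by
    rw [det_deform, Matrix.det_one, one_mul, h2, he]
    apply TrivSqZeroExt.ext <;> simp [mul_comm]
  have hcc : e * e = 0 := inr_mul_inr _ _ _
  have hU' : IsUnit (h (U.map inl : Matrix (Fin n) (Fin n) (TrivSqZeroExt K K))) := by
    rw [show (h (U.map inl) : TrivSqZeroExt K K) = inlHom K K (h U) from (map_h (inlHom K K) U).symm]
    exact (isUnit_iff_ne_zero.2 hU).map _
  have h3 := OrthSmooth.h_congr hscale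
  rw [h_transform ⟨m, hn⟩, OrthSmooth.h_smul ⟨m, hn⟩, hdet] at h3
  have h4 := hU'.mul_right_cancel h3
  rw [sub_eq_add_neg (1 : TrivSqZeroExt K K) e, OrthSmooth.one_add_pow (by rw [neg_mul_neg, hcc]), hn] at h4
  push_cast at h4
  have : e = 0 := by linear_combination ((m : TrivSqZeroExt K K) + 1) ^ 2 * hcc - h4
  simpa [he] using congrArg TrivSqZeroExt.snd this

omit E [Algebra (Rep.coordRing E) K] [IsScalarTower R (Rep.coordRing E) K] in
/-- The tangent space of the special orthogonal group in odd rank. -/
theorem finrank_tang_odd (m : ℕ) (U : Matrix (Fin (2 * m + 1)) (Fin (2 * m + 1)) K) (hU : h U ≠ 0) :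
    Module.finrank K (LinearMap.ker (OrthSmooth.tang U ((m : K) + 1) ∘ₗ LinearMap.inl K _ K)) =
      m * (2 * m + 1) := by
  set T := OrthSmooth.tang U ((m : K) + 1)
  have hk : (LinearMap.ker (T ∘ₗ LinearMap.inl K _ K)).map (LinearMap.inl K _ K) = LinearMap.ker T := by
    ext ⟨X, c⟩
    constructor
    · rintro ⟨Y, hY, hYX⟩
      rw [← hYX]
      exact hY
    · intro hX
      obtain rfl := tang_snd_zero m rfl U hU X c hX
      exact ⟨X, hX, rfl⟩
  rw [(Submodule.equivMapOfInjective (LinearMap.inl K (Matrix (Fin (2 * m + 1)) (Fin (2 * m + 1)) K) K) LinearMap.inl_injective _).finrank_eq, hk]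
  have h := T.finrank_range_add_finrank_ker
  rw [LinearMap.range_eq_top.2 (OrthSmooth.tang_surjective rfl U (isUnit_iff_ne_zero.2 hU)), finrank_top,
    Module.finrank_prod, Module.finrank_prod, Module.finrank_pi, Sym2.card, Fintype.card_fin, Module.finrank_matrix,
    Fintype.card_fin, Module.finrank_self, mul_one, Nat.choose_two_right, Nat.add_sub_cancel] at h
  have e : (2 * m + 1 + 1) * (2 * m + 1) / 2 = (m + 1) * (2 * m + 1) := by
    rw [show (2 * m + 1 + 1) * (2 * m + 1) = 2 * ((m + 1) * (2 * m + 1)) by ring]
    exact Nat.mul_div_cancel_left _ two_pos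
  rw [e] at h
  nlinarith

end Orth

end Groth.Agent.Lib.QuadGrp99.SO
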